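import Cfsg.Agent.H187.FiOdd.Dat

/-!
# `Fi24`: bounds for the centralizers of the elements of prime order `r ≥ 5` (helper187)

* `card_cent_five` : `|C(y)| ≤ 1814400` if `y` has order 5;
* `card_cent_seven` : `y` of order 7: `y` is conjugate to a power of `y7` and `|C(y)| ≤ 35280`, or `|C(y)| ≤ 306936`;
* `card_cent_big` : `|C(y)| ≤ 306936` if `y` has order 11, 13, 17, 23 or 29;
* `card_cent_le` : `|C(y)| ≤ 1814400` for all elements of prime order `≥ 5`;
* `exists_conj_y7` : a subgroup of order `343` contains a conjugate of `y7`.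
-/

set_option autoImplicit false
set_option maxRecDepth 100000
set_option linter.constructorNameAsVariable false

namespace Cfsg.Agent.H187.FiOdd

open Cfsg Cfsg.Agent.Lib.PermNet Cfsg.Agent.Lib.PermNetPt Cfsg.Agent.Fischer.Fi24RepDef Cfsg.Agent.Fischer.Fi24Rep
open Cfsg.Agent.Fischer.Fi24RepOrb (UG ncard_G)
open Cfsg.Agent.Fischer.Fi24Spider (word_append word_cons word_nil)
open Cfsg.Agent.R08.FiTwentyFour (finite_Fi24)
open Cfsg.Agent.KFacts.FiTF.Pts Cfsg.Agent.KFacts.FiTF.FixMask Cfsg.Agent.H843.Pat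
open Cfsg.Agent.KFacts.FiTF.Defs (tr)
open Cfsg.Spor (Fi24)
open Cfsg.Spor.Fi24 (Gen)
open Subgroup

/-- **A group acting regularly on the orbit of a point.** -/
theorem card_le_of_trivial (N : Subgroup Fi24) {d : Fi24} {p0 : ℕ} (h0 : IsPt d p0)
    (h : ∀ z ∈ N, rho z p0 = p0 → z = 1) : Nat.card N ≤ 306936 := by
  have hfin : Finite Fi24 := finite_Fi24
  have hG : {p : ℕ | UG.testBit p = true}.Finite := by
    apply Set.finite_of_ncard_ne_zero
    rw [ncard_G]; norm_num
  rw [← ncard_G, ← Nat.card_coe_set_eq]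
  have : Finite ↑{p : ℕ | UG.testBit p = true} := hG
  refine Nat.card_le_card_of_injective
    (fun z : N => (⟨rho (z : Fi24) p0, bit (h0.conj (z : Fi24))⟩ : ↑{p : ℕ | UG.testBit p = true})) ?_
  intro a b hab
  have h1 : rho (a : Fi24) p0 = rho (b : Fi24) p0 := congrArg Subtype.val hab
  have h2 : (b : Fi24)⁻¹ * (a : Fi24) = 1 := by
    refine h _ (mul_mem (inv_mem b.2) a.2) ?_
    rw [map_mul, map_inv, Equiv.Perm.mul_apply, h1, Equiv.Perm.inv_eq_iff_eq]
  exact Subtype.ext (inv_mul_eq_one.1 h2).symm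

theorem card_cent_of_gen {tw xw : List Gen} {p0 : ℕ} {ls : List (List (Fin 3))} (h : genB tw xw p0 ls = true)
    (h0 : IsPt (word tw) p0) : Nat.card ↥(centralizer ({word xw} : Set Fi24)) ≤ 306936 :=
  card_le_of_trivial _ h0 fun _ hz hp => eq_one_of_gen h h0 (mem_centralizer_singleton_iff.1 hz) hp

theorem isPt_gen' (x : Gen) : IsPt (word [x]) (pn x) := by
  have h := isPt_gen x
  rwa [show word [x] = gen x by rw [word_cons, word_nil, mul_one]]

theorem c11 : Nat.card ↥(centralizer ({word x11} : Set Fi24)) ≤ 306936 := card_cent_of_gen gen11 (isPt_gen' .d)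
theorem c13 : Nat.card ↥(centralizer ({word x13} : Set Fi24)) ≤ 306936 := card_cent_of_gen gen13 (isPt_gen' .j)
theorem c17 : Nat.card ↥(centralizer ({word x17} : Set Fi24)) ≤ 306936 := card_cent_of_gen gen17 (isPt_gen' .g)
theorem c23 : Nat.card ↥(centralizer ({word x23} : Set Fi24)) ≤ 306936 := card_cent_of_gen gen23 (isPt_gen' .j)
theorem c29 : Nat.card ↥(centralizer ({word x29} : Set Fi24)) ≤ 306936 := card_cent_of_gen gen29 (isPt_gen' .i)

theorem c7 : Nat.card ↥(centralizer ({Cfsg.Agent.H842.SevenSyl.c} : Set Fi24)) ≤ 306936 := by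
  refine card_cent_of_gen (xw := Cfsg.Agent.H842.SevenK.cw) gen7 ?_
  have h := isPt_tr (u := [.c]) (x := .b) pt7
  exact h

/-! ### Conjugation -/

/-- centralizers of conjugate elements -/
theorem card_cent_conj {G : Type*} [Group G] (g x : G) :
    Nat.card ↥(centralizer ({g * x * g⁻¹} : Set G)) = Nat.card ↥(centralizer ({x} : Set G)) := by
  refine (Nat.card_congr ((MulAut.conj g).toEquiv.subtypeEquiv fun a => ?_)).symm
  rw [mem_centralizer_singleton_iff, mem_centralizer_singleton_iff]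
  show a * x = x * a ↔ (g * a * g⁻¹) * (g * x * g⁻¹) = (g * x * g⁻¹) * (g * a * g⁻¹)
  constructor
  · intro h
    calc (g * a * g⁻¹) * (g * x * g⁻¹) = g * (a * x) * g⁻¹ := by group
      _ = g * (x * a) * g⁻¹ := by rw [h]
      _ = _ := by group
  · intro h
    have h1 : g * (a * x) * g⁻¹ = g * (x * a) * g⁻¹ := by
      calc g * (a * x) * g⁻¹ = (g * a * g⁻¹) * (g * x * g⁻¹) := by group
        _ = (g * x * g⁻¹) * (g * a * g⁻¹) := h
        _ = _ := by group
    exact mul_left_cancel (mul_right_cancel h1)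

/-- centralizers of generators of the same cyclic group -/
theorem cent_eq_of_zpowers {G : Type*} [Group G] {x y : G} (h : zpowers x = zpowers y) :
    centralizer ({x} : Set G) = centralizer ({y} : Set G) := by
  rw [← H843.Cyc.centralizer_zpowers, h, H843.Cyc.centralizer_zpowers]

/-- conjugate cyclic groups -/
theorem card_cent_of_map {G : Type*} [Group G] {g x y : G}
    (h : (zpowers x).map (MulAut.conj g).toMonoidHom = zpowers y) :
    Nat.card ↥(centralizer ({x} : Set G)) = Nat.card ↥(centralizer ({y} : Set G)) := by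
  rw [H898.FiveNorm.map_conj_zpowers] at h
  rw [← card_cent_conj g x, cent_eq_of_zpowers h]

theorem pow_eq_one_of {n : ℕ} {w : List Gen} (h : chkEq (rep n w) [] = true) : word w ^ n = 1 := by
  have h1 := word_eq_of h
  rw [word_rep, word_nil] at h1
  exact h1

/-- elements of order `r`, the exact power of `r` in the order -/
theorem card_cent_of_syl {r : ℕ} (hr : r.Prime) (h2 : ¬ r ^ 2 ∣ 2510411418381323442585600) {w : List Gen}
    (hw : chkEq (rep r w) [] = true) (hc : Nat.card ↥(centralizer ({word w} : Set Fi24)) ≤ 306936) {y : Fi24}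
    (hy : orderOf y = r) : Nat.card ↥(centralizer ({y} : Set Fi24)) ≤ 306936 := by
  have hfin : Finite Fi24 := finite_Fi24
  have hf : Fact r.Prime := ⟨hr⟩
  have h1 : word w ≠ 1 := by
    intro h0
    rw [h0] at hc
    have h3 : centralizer ({1} : Set Fi24) = ⊤ := by
      rw [eq_top_iff]
      intro g _
      rw [mem_centralizer_singleton_iff, mul_one, one_mul]
    rw [h3, card_top, H843.Fi24N.card_Fi24] at hc
    norm_num at hc
  have h3 : orderOf (word w) = r := orderOf_eq_prime (pow_eq_one_of hw) h1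
  rw [← H843.Fi24N.card_Fi24] at h2
  obtain ⟨g, hg⟩ := H843.Syl.exists_conj hr h2 (zpowers (word w)) (zpowers y) (by rw [Nat.card_zpowers, h3])
    (by rw [Nat.card_zpowers, hy])
  rwa [← card_cent_of_map hg]

theorem card_cent_big {y : Fi24} {r : ℕ} (hr : r = 11 ∨ r = 13 ∨ r = 17 ∨ r = 23 ∨ r = 29) (hy : orderOf y = r) :
    Nat.card ↥(centralizer ({y} : Set Fi24)) ≤ 306936 := by
  rcases hr with rfl | rfl | rfl | rfl | rfl
  · exact card_cent_of_syl (by norm_num) (by norm_num) pow11 c11 hy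
  · exact card_cent_of_syl (by norm_num) (by norm_num) pow13 c13 hy
  · exact card_cent_of_syl (by norm_num) (by norm_num) pow17 c17 hy
  · exact card_cent_of_syl (by norm_num) (by norm_num) pow23 c23 hy
  · exact card_cent_of_syl (by norm_num) (by norm_num) pow29 c29 hy

/-! ### Order 5 -/

theorem card_cent_y0 : Nat.card ↥(centralizer ({LThreeFi24.SNine.y0} : Set Fi24)) ≤ 1814400 := by
  have hfin : Finite Fi24 := finite_Fi24
  have h1 : Nat.card (Fin 5 × Equiv.Perm (Fin 9)) = 1814400 := by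
    rw [Nat.card_prod, Nat.card_eq_fintype_card, Nat.card_eq_fintype_card, Fintype.card_perm, Fintype.card_fin,
      Fintype.card_fin]
    rfl
  rw [← h1]
  refine Nat.card_le_card_of_surjective (fun a : Fin 5 × Equiv.Perm (Fin 9) =>
    (⟨LThreeFi24.SNine.y0 ^ (a.1 : ℕ) * H841.Five.Phi a.2, ?_⟩ : ↥(centralizer ({LThreeFi24.SNine.y0} : Set Fi24)))) ?_
  · rw [mem_centralizer_singleton_iff]
    exact (((Commute.refl LThreeFi24.SNine.y0).pow_left _).mul_left (H841.Five.Phi_comm_y0 a.2)).eq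
  · rintro ⟨n, hn⟩
    obtain ⟨i, σ, hi, -, h⟩ := H841.Five.exists_of_comm (mem_centralizer_singleton_iff.1 hn)
    exact ⟨(⟨i, hi⟩, σ), Subtype.ext h.symm⟩

theorem card_cent_five {y : Fi24} (hy : orderOf y = 5) : Nat.card ↥(centralizer ({y} : Set Fi24)) ≤ 1814400 := by
  obtain ⟨g, hg⟩ := LThreeFi24.FiveConj.exists_conj_five hy
  rw [← card_cent_conj g y, hg]
  exact card_cent_y0

/-! ### Order 7 -/

open Cfsg.Agent.H842.Seven (y7)
open Cfsg.Agent.H842.SevenSyl (dat cases7 card_cent_y7)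

theorem card_cent_seven {y : Fi24} (hy : orderOf y = 7) :
    (∃ g : Fi24, (zpowers y).map (MulAut.conj g).toMonoidHom = zpowers y7) ∧
      Nat.card ↥(centralizer ({y} : Set Fi24)) ≤ 35280 ∨
    (¬ ∃ g : Fi24, (zpowers y).map (MulAut.conj g).toMonoidHom = zpowers y7) ∧
      Nat.card ↥(centralizer ({y} : Set Fi24)) ≤ 306936 := by
  by_cases h : ∃ g : Fi24, (zpowers y).map (MulAut.conj g).toMonoidHom = zpowers y7
  · left
    refine ⟨h, ?_⟩
    obtain ⟨g, hg⟩ := h
    rw [card_cent_of_map hg]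
    exact Nat.le_of_dvd (by norm_num) card_cent_y7
  · right
    refine ⟨h, ?_⟩
    obtain ⟨g, hg | hg⟩ := cases7 (X := zpowers y) (by rw [Nat.card_zpowers, hy])
    · exact absurd ⟨g, hg⟩ h
    · rw [card_cent_of_map hg]
      exact c7

/-- **A subgroup of order 343 contains a conjugate of `y7`.** -/
theorem exists_conj_y7 {P : Subgroup Fi24} (hP : Nat.card P = 343) :
    ∃ y ∈ P, orderOf y = 7 ∧ ∃ g : Fi24, (zpowers y).map (MulAut.conj g).toMonoidHom = zpowers y7 := by
  have hfin : Finite Fi24 := finite_Fi24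
  have hf : Fact (Nat.Prime 7) := ⟨by norm_num⟩
  obtain ⟨Q, hQ⟩ := H842.SevenSyl.exists_sylow
  have hP' : IsPGroup 7 P := IsPGroup.of_card (n := 3) (by rw [hP]; norm_num)
  obtain ⟨T, hT⟩ := hP'.exists_le_sylow
  have hfac : (Nat.card Fi24).factorization 7 = 3 := by
    rw [H843.Fi24N.card_Fi24, show (2510411418381323442585600 : ℕ) = 7 ^ 3 * 7318983727059252019200 by norm_num,
      Nat.factorization_mul (by norm_num) (by norm_num), Finsupp.add_apply,
      Nat.Prime.factorization_pow (by norm_num), Finsupp.single_eq_same,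
      Nat.factorization_eq_zero_of_not_dvd (by norm_num)]
  have hTc : Nat.card (T : Subgroup Fi24) = 343 := by
    rw [T.card_eq_multiplicity, hfac]; norm_num
  have hPT : P = (T : Subgroup Fi24) := eq_of_le_of_card_ge hT (by rw [hTc, hP])
  obtain ⟨g, hg⟩ := MulAction.exists_smul_eq Fi24 T Q
  have hg' : (T : Subgroup Fi24).map (MulAut.conj g).toMonoidHom = dat.P := by
    rw [← hQ, ← hg]; rfl
  have hy : y7 ∈ dat.P := ⟨0, 1, 0, by rw [pow_zero, pow_zero, one_mul, mul_one, pow_one]⟩
  rw [← hg', ← hPT] at hy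
  obtain ⟨y, hy, hyy⟩ := hy
  have hyy' : g * y * g⁻¹ = y7 := hyy
  have ho : orderOf y7 = 7 := orderOf_eq_prime H842.SevenSyl.y7_pow H842.SevenSyl.y7_ne
  refine ⟨y, hy, ?_, g, ?_⟩
  · rw [← ho, ← hyy']
    exact (orderOf_injective (MulAut.conj g).toMonoidHom (MulAut.conj g).injective y).symm
  · rw [H898.FiveNorm.map_conj_zpowers, hyy']

/-- **All the elements of prime order `≥ 5`.** -/
theorem card_cent_le {y : Fi24} {r : ℕ} (hr : r.Prime) (h5 : 5 ≤ r) (hy : orderOf y = r) :
    Nat.card ↥(centralizer ({y} : Set Fi24)) ≤ 1814400 := by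
  have hfin : Finite Fi24 := finite_Fi24
  have h1 : r ∣ 2510411418381323442585600 := by
    rw [← H843.Fi24N.card_Fi24, ← hy]
    exact orderOf_dvd_natCard y
  have h2 : (2510411418381323442585600 : ℕ) = 2 ^ 22 * 3 ^ 16 * 5 ^ 2 * 7 ^ 3 * 11 * 13 * 17 * 23 * 29 := by norm_num
  rw [h2] at h1
  simp only [hr.dvd_mul] at h1
  have key : ∀ {q n : ℕ}, q.Prime → r ∣ q ^ n → r = q := fun hq h => (Nat.prime_dvd_prime_iff_eq hr hq).1 (hr.dvd_of_dvd_pow h)
  have key' : ∀ {q : ℕ}, q.Prime → r ∣ q → r = q := fun hq h => (Nat.prime_dvd_prime_iff_eq hr hq).1 h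
  rcases h1 with (((((((h | h) | h) | h) | h) | h) | h) | h) | h
  · have := key (by norm_num) h; omega
  · have := key (by norm_num) h; omega
  · have := key (by norm_num) h
    subst this
    exact card_cent_five hy
  · have := key (by norm_num) h
    subst this
    rcases card_cent_seven hy with ⟨-, h3⟩ | ⟨-, h3⟩ <;> omega
  all_goals
    have := key' (by norm_num) h
    subst this
    exact (card_cent_big (by simp) hy).trans (by norm_num)

end Cfsg.Agent.H187.FiOdd
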