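import Cfsg.Agent.H842.SevenSyl
import Cfsg.Agent.H843.Fi24N

/-!
# `Fi24`: elements of prime order `r ≥ 7` and a transposition without common centralizer (helper187, kernel checks)

`gen11`, …, `gen29`, `gen7` : the transposition at the point `p0` and the element `x` of order `r` (a word `w` or a
power of it; for `r = 7` the element `c` of the class without fixed transpositions) carry `p0` to the points of the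
generators.
-/

set_option autoImplicit false
set_option maxRecDepth 100000
set_option Elab.async false
set_option linter.constructorNameAsVariable false

namespace Cfsg.Agent.H187.FiOdd

open Cfsg Cfsg.Agent.Lib.PermNet Cfsg.Agent.Lib.PermNetPt Cfsg.Agent.Fischer.Fi24RepDef Cfsg.Agent.Fischer.Fi24Rep
open Cfsg.Agent.KFacts.FiTF.FixMask Cfsg.Agent.H843.Pat
open Cfsg.Spor (Fi24)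
open Cfsg.Spor.Fi24 (Gen)

/-- a word of order 11 -/
def x11 : List Gen := [.b, .g, .j, .a, .i, .d, .k, .e, .f, .g, .f, .h, .c, .l, .b, .g, .j, .a, .i, .d, .k, .e, .f, .g, .f, .h, .c, .l, .b, .g, .j, .a, .i, .d, .k, .e, .f, .g, .f, .h, .c, .l]

def l11 : List (List (Fin 3)) :=
  [[1, 1, 0, 1, 1, 1, 1, 0, 1, 1, 0, 2, 0, 2, 0, 2, 0, 2, 2, 2, 0, 2], [1, 1, 0, 1, 1, 1, 1, 0, 1, 1, 0, 2, 0,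
    2, 0, 2, 0, 2, 2, 2, 0, 2], [2, 2, 0, 2, 2, 2, 2, 0, 2, 2, 0, 1, 0, 1, 0, 1, 0, 1, 1, 1, 0, 1], [1, 0, 1, 1,
     0, 1, 0, 2, 2, 0, 1, 0, 2, 2, 0, 1, 0, 1, 0, 1, 0, 1], [1, 1, 1, 0, 2, 2, 2, 0, 2, 2, 2, 0, 1, 0, 1, 1, 0,
    1, 1], [2, 0, 1, 0, 1, 1, 1, 0, 2, 0, 2, 2, 2, 0, 2, 2, 0, 2, 0, 1, 1], [], [1, 0, 2, 0, 1, 0, 1, 1, 1, 0,
    1, 0, 1, 0, 1, 0, 2, 2, 2], [1, 0, 2, 2, 2, 0, 2, 0, 2, 2, 2, 2, 0, 1, 0, 1, 0, 1, 0, 1, 0, 1], [1, 1, 0, 2,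
     0, 1, 0, 1, 1, 1, 0, 1, 0, 1, 0, 1, 0, 2, 2, 2], [2, 0, 1, 1, 1, 0, 1, 0, 1, 1, 1, 1, 0, 2, 0, 2, 0, 2, 0,
    2, 0, 2], [2, 0, 2, 0, 2, 2, 0, 2, 0, 2, 0, 2, 2, 2], [2, 2, 2, 2, 2, 0, 2]]

theorem gen11 : genB [.d] x11 2914 l11 = true := by decide +kernel

theorem pow11 : chkEq (rep 11 x11) [] = true := by decide +kernel

/-- a word of order 13 -/
def x13 : List Gen := [.d, .l, .a, .e, .g, .d, .h, .d, .i, .h, .f, .k, .b, .c, .l, .d, .l, .a, .e, .g, .d, .h, .d, .i, .h, .f, .k, .b, .c, .l]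

def l13 : List (List (Fin 3)) :=
  [[2, 2, 2, 0, 1, 1, 1, 1, 0, 1, 1, 1, 0, 2, 0, 1, 1, 0, 1, 1, 1], [2, 2, 2, 0, 1, 1, 1, 1, 0, 1, 1, 1, 0, 2,
    0, 1, 1, 0, 1, 1, 1], [1, 1, 1, 0, 1, 1, 1, 0, 2, 0, 1, 1, 0, 1, 1, 0, 1, 1, 0, 1], [2, 2, 0, 2, 2, 0, 2, 2,
     2, 0, 1, 0, 1, 1, 1, 0, 1, 1, 1, 0, 2, 2, 0, 2, 0, 2], [2, 2, 2, 2, 0, 1, 0, 1, 1, 0, 1, 0, 1, 1, 0, 2, 0,
    2, 2, 0, 2, 0, 2, 2, 2], [2, 0, 2, 2, 0, 2, 0, 1, 1, 0, 1, 0, 1, 1, 1, 1, 0, 2, 0, 2, 2, 0, 2, 2, 0, 2], [1,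
     1, 0, 2, 2, 2, 0, 2, 0, 1, 1, 1, 1, 1, 0, 1, 0, 1, 1, 0, 1, 0, 1], [2, 2, 0, 2, 0, 2, 2, 0, 2, 2, 2, 2, 2,
    0, 1, 0, 1, 0, 2, 0, 2, 2, 0, 2, 2, 2], [2, 2, 2, 2, 0, 1, 0, 2, 2, 0, 1, 0, 2, 0, 2, 0, 2, 2, 2, 2, 0, 2,
    2, 2], [0, 2, 0, 1, 1, 1, 0, 2, 2, 2, 2, 0, 1, 0, 1, 1, 1, 0, 1], [], [1, 0, 1, 1, 0, 1, 0, 1, 0, 2, 2, 0,
    2, 0, 2, 2, 0, 2, 0, 2, 2, 2, 0, 2], [2, 0, 2, 2, 0, 2, 0, 2, 0, 1, 1, 0, 1, 0, 1, 1, 0, 1, 0, 1, 1, 1, 0, 1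
    ]]

theorem gen13 : genB [.j] x13 136 l13 = true := by decide +kernel

theorem pow13 : chkEq (rep 13 x13) [] = true := by decide +kernel

/-- a word of order 17 -/
def x17 : List Gen := [.h, .b, .k, .a, .f, .l, .a, .g, .e, .d, .a, .c, .h, .d, .i, .j]

def l17 : List (List (Fin 3)) :=
  [[1, 1, 1, 1, 1, 1, 1, 0, 2, 0, 2, 0, 2, 2, 0, 2, 2, 2, 2], [1, 1, 1, 1, 1, 1, 1, 0, 2, 0, 2, 0, 2, 2, 0, 2,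
    2, 2, 2], [2, 2, 2, 0, 1, 1, 1, 1, 0, 2, 2, 2, 0, 2, 0, 2, 2, 2, 2], [2, 2, 0, 1, 0, 1, 0, 2, 2, 2, 0, 2, 2,
     2, 2, 0, 1, 1, 0, 1, 1, 1, 1], [2, 0, 2, 0, 1, 1, 0, 1, 0, 1, 0, 1, 1, 0, 1, 0, 1, 1, 0, 1, 1, 1, 0, 1], [
    2, 2, 0, 2, 2, 0, 1, 0, 1, 0, 1, 0, 2, 0, 2, 2, 0, 2, 2, 0, 1, 0, 2, 2, 2, 2], [2, 0, 1, 0, 1, 0, 1, 0, 1,
    1, 0, 2, 0, 2, 0, 2, 2, 0, 2, 2, 2, 2], [1, 1, 1], [0, 1, 0, 1], [], [1], [2, 0, 2, 2, 0, 1, 0, 1, 0, 1, 0,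
    2, 0, 2, 2, 0, 2, 2, 0, 1, 0, 2, 2, 2, 2], [2, 0, 2, 2, 2, 2, 2, 0, 1, 1, 1, 1, 0, 2, 0, 1, 1, 1, 0, 1, 0, 1
    ]]

theorem gen17 : genB [.g] x17 8 l17 = true := by decide +kernel

theorem pow17 : chkEq (rep 17 x17) [] = true := by decide +kernel

/-- a word of order 23 -/
def x23 : List Gen := [.f, .i, .d, .h, .l, .e, .k, .b, .d, .a, .c, .g, .h, .f, .i, .d, .h, .l, .e, .k, .b, .d, .a, .c, .g, .h]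

def l23 : List (List (Fin 3)) :=
  [[2, 2, 0, 1, 0, 2, 2, 2, 0, 2, 0, 2, 2, 0, 2, 0, 2, 0, 2, 0, 2, 0, 2, 2, 2], [2, 2, 0, 1, 0, 2, 2, 2, 0, 2,
    0, 2, 2, 0, 2, 0, 2, 0, 2, 0, 2, 0, 2, 2, 2], [2, 2, 2, 0, 2, 0, 1, 0, 1, 0, 1, 1, 0, 2, 0, 1, 1, 0, 1, 1,
    1, 1, 0, 1], [2, 2, 2, 0, 2, 0, 1, 0, 1, 0, 1, 1, 0, 1, 0, 1, 0, 1, 0, 1, 0, 1], [1, 1, 1, 0, 2, 0, 1, 1, 1,
     1, 1, 1, 0, 2, 0, 2, 0, 2], [1, 1, 0, 2, 0, 1, 0, 1, 1, 0, 1, 1, 0, 2, 0, 2, 2, 2, 2, 2, 2], [2, 0, 1, 1,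
    0, 1, 0, 1, 0, 1, 0, 2, 0, 2, 2, 0, 1, 0, 1, 0, 1, 1, 1], [2, 2, 2, 2, 0, 1, 0, 2, 2, 0, 2, 2, 2, 2, 0, 2,
    2, 0, 1, 0, 2, 0, 2, 0, 2], [1, 1, 1, 1, 1, 1, 1, 1, 1, 1, 1, 0, 1], [1, 1, 0, 1, 1, 1, 1, 0, 2, 0, 1, 1, 1,
     1, 1, 1, 1, 0, 1, 0, 1], [], [2, 2, 2, 2, 0, 2, 2, 2, 0, 1, 0, 1, 0, 1, 0, 1, 0, 1, 0, 1, 1, 0, 1, 0, 1], [
    1, 1, 0, 1, 0, 1, 1, 1, 1, 0, 1, 0, 1, 1, 0, 1, 1, 1, 1, 0, 1]]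

theorem gen23 : genB [.j] x23 136 l23 = true := by decide +kernel

theorem pow23 : chkEq (rep 23 x23) [] = true := by decide +kernel

/-- a word of order 29 -/
def x29 : List Gen := [.a, .c, .e, .g, .h, .b, .d, .f, .k, .c, .e, .h, .l, .b, .d, .f, .j, .i]

def l29 : List (List (Fin 3)) :=
  [[2, 2, 0, 2, 0, 2, 0, 2, 2, 0, 2, 2, 0, 1, 0, 1, 1, 1, 1, 1, 0, 1], [2, 2, 0, 2, 0, 2, 0, 2, 2, 0, 2, 2, 0,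
    1, 0, 1, 1, 1, 1, 1, 0, 1], [1, 1, 0, 1, 0, 1, 0, 1, 1, 0, 1, 1, 0, 2, 0, 2, 2, 2, 2, 2, 0, 2], [2, 0, 2, 0,
     2, 0, 1, 1, 0, 2, 2, 0, 2, 0, 2, 0, 2, 2, 2], [2, 0, 2, 0, 2, 2, 0, 1, 0, 1, 0, 2, 2, 2, 0, 2, 0, 1, 1], [
    2, 2, 2, 0, 1, 0, 1, 1, 0, 2, 0, 2, 0, 2, 2, 2], [2, 0, 1, 0, 2, 2, 0, 2, 0, 2, 0, 2, 0, 2, 2, 0, 2, 0, 1, 1
    ], [1, 0, 1, 0, 1, 1, 0, 2, 0, 2, 0, 1, 1, 1, 0, 2, 0, 1, 1], [1, 1, 1, 0, 2, 0, 2, 2, 0, 1, 0, 1, 0, 1, 1,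
    1], [2, 0, 2, 2, 0, 1, 1, 0, 1, 0, 1, 0, 1, 0, 1, 1], [2, 2, 0, 1, 0, 1, 1, 0, 2, 0, 2, 2, 0, 1, 0, 1, 0, 1,
     1, 1], [1, 1, 0, 2, 0, 1, 1, 0, 1, 0, 1, 0, 1, 0, 1, 1, 0, 2, 0, 1, 1], []]

theorem gen29 : genB [.i] x29 176 l29 = true := by decide +kernel

theorem pow29 : chkEq (rep 29 x29) [] = true := by decide +kernel

def l7 : List (List (Fin 3)) :=
  [[2, 2, 2, 0, 1, 1, 1, 0, 2, 0, 2, 0, 2, 2], [2, 2, 2, 0, 1, 1, 1, 0, 2, 0, 2, 0, 2, 2], [2, 2, 0, 1, 1, 1, 0,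
     2, 0, 2, 0, 2, 2], [2, 0, 1, 1, 1, 0, 2, 0, 2, 0, 2, 2], [0, 1, 1, 1, 0, 2, 0, 2, 0, 2, 2], [1, 1, 1, 0, 2,
     0, 2, 0, 2, 2], [1, 0, 1, 0, 2, 2, 0, 2, 2, 0, 2, 0, 1, 0, 1, 0, 2, 2, 2], [1, 0, 1, 1, 0, 2, 0, 2, 2, 2,
    0, 2, 0, 2, 2, 2, 0, 2, 0, 2], [2, 2, 0, 1, 1, 0, 1, 1, 0, 2, 2, 2, 0, 1, 0, 1, 1, 0, 1], [2, 0, 2, 0, 1, 1,
     0, 1, 0, 2, 0, 2, 0, 2, 2, 2, 0, 2, 2, 0, 2, 2, 0, 2], [2, 0, 1, 0, 2, 2, 0, 1, 0, 1, 0, 1, 1, 0, 1, 0, 2,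
    2, 0, 2, 0, 2, 0, 2], [1, 0, 1, 0, 2, 2, 0, 1, 0, 2, 0, 2, 0, 2, 0, 2, 2, 0, 2, 0, 2, 2], [2, 2, 0, 2, 0, 1,
     0, 1, 0, 1, 0, 2, 0, 2, 2, 2, 0, 2, 0, 2, 2]]

theorem gen7 : genB [.c, .b, .c] Cfsg.Agent.H842.SevenK.cw 195 l7 = true := by decide +kernel

theorem pt7 : chkPt (nw [.c] false) 193 195 = true := by decide +kernel

end Cfsg.Agent.H187.FiOdd
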