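import Cfsg.Agent.H187.FiOdd.Cent
import Cfsg.Agent.H516.OddFrame
import Cfsg.Agent.H711.FiEven

/-!
# S4094, S4095, S4096, S3842: the row `Fi24'`, `p ≥ 5` (helper187, task 561)

`|C_L(a)| ≥ 3 ^ 16` (a Sylow 3-subgroup is a `p'`-group) and `C_L(a) ≤ C_L(b)`.

* `b` of prime order `≥ 5` : `|C(b)| ≤ 1814400`;
* `b` of order 3 : `|C_L(b)|` is even (helper711), so `P = O_p(C_L(b)) ≠ 1`; `C_L(a)` acts on `P` and
  `|C_L(a)| ≤ (|P| - 2) |C(y)|` for `y ∈ P`, `y ≠ 1`.
-/

set_option autoImplicit false

namespace Cfsg.Agent.H187.FiOdd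

open Cfsg Cfsg.Agent.H516 Subgroup
open Cfsg.Agent.R08.FiTwentyFour (finite_Fi24 card_commutator)
open Cfsg.Spor (Fi24)
open Cfsg.Agent.H842.Seven (y7)

universe u

section

variable {L : Type u} [Group L] [Finite L]

/-- **Orbit bound**: a group of odd order acting by conjugation on the group `P` of odd order. -/
theorem card_le_of_conj {F P : Subgroup L} (hF : ∀ f ∈ F, ∀ s ∈ P, f * s * f⁻¹ ∈ P) (hodd : Odd (Nat.card F))
    (hP : Odd (Nat.card P)) {y : L} (hy : y ∈ P) (hy1 : y ≠ 1) :
    Nat.card F ≤ (Nat.card P - 2) * Nat.card ↥(centralizer ({y} : Set L)) := by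
  set K : Subgroup F := (centralizer ({y} : Set L)).subgroupOf F with hK
  have h1 : Nat.card K ≤ Nat.card ↥(centralizer ({y} : Set L)) :=
    Nat.card_le_card_of_injective (fun k : K => (⟨((k : F) : L), mem_subgroupOf.1 k.2⟩ : ↥(centralizer ({y} : Set L))))
      (by
        intro a b hab
        have h0 : ((a : F) : L) = ((b : F) : L) :=
          congrArg (fun s : ↥(centralizer ({y} : Set L)) => (s : L)) hab
        exact Subtype.ext (Subtype.ext h0))
  have h2 : K.index ≤ Nat.card {s : P // s ≠ 1} := by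
    rw [index_eq_card]
    refine Nat.card_le_card_of_injective (Quotient.lift (fun f : F =>
      (⟨⟨(f : L) * y * (f : L)⁻¹, hF f f.2 y hy⟩, ?_⟩ : {s : P // s ≠ 1})) ?_) ?_
    · intro h
      have h3 : (f : L) * y * (f : L)⁻¹ = 1 := congrArg Subtype.val h
      apply hy1
      calc y = (f : L)⁻¹ * ((f : L) * y * (f : L)⁻¹) * f := by group
        _ = 1 := by rw [h3]; group
    · intro a b hab
      have h3 : a⁻¹ * b ∈ K := QuotientGroup.leftRel_apply.1 hab
      have h4 : ((a : L)⁻¹ * b) * y = y * ((a : L)⁻¹ * b) := mem_centralizer_singleton_iff.1 (mem_subgroupOf.1 h3)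
      apply Subtype.ext
      apply Subtype.ext
      show (a : L) * y * (a : L)⁻¹ = (b : L) * y * (b : L)⁻¹
      calc (a : L) * y * (a : L)⁻¹ = a * (y * ((a : L)⁻¹ * b)) * (b : L)⁻¹ := by group
        _ = a * (((a : L)⁻¹ * b) * y) * (b : L)⁻¹ := by rw [h4]
        _ = _ := by group
    · intro a b
      induction a using Quotient.inductionOn with | _ a => ?_
      induction b using Quotient.inductionOn with | _ b => ?_
      intro hab
      have h3 : (a : L) * y * (a : L)⁻¹ = (b : L) * y * (b : L)⁻¹ :=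
        congrArg (fun s : {s : P // s ≠ 1} => ((s : P) : L)) hab
      apply Quotient.sound
      apply QuotientGroup.leftRel_apply.2
      refine mem_subgroupOf.2 (mem_centralizer_singleton_iff.2 ?_)
      show ((a : L)⁻¹ * b) * y = y * ((a : L)⁻¹ * b)
      calc ((a : L)⁻¹ * b) * y = (a : L)⁻¹ * ((b : L) * y * (b : L)⁻¹) * b := by group
        _ = (a : L)⁻¹ * ((a : L) * y * (a : L)⁻¹) * b := by rw [h3]
        _ = _ := by group
  have h3 : Nat.card {s : P // s ≠ 1} = Nat.card P - 1 := by
    classical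
    have := Fintype.ofFinite P
    rw [Nat.card_eq_fintype_card, Nat.card_eq_fintype_card, Fintype.card_subtype_compl, Fintype.card_subtype_eq]
  have h4 := K.card_mul_index
  have h5 : Odd K.index := hodd.of_dvd_nat ⟨_, by rw [← h4, mul_comm]⟩
  have h6 : K.index ≤ Nat.card P - 2 := by
    rw [h3] at h2
    obtain ⟨m, hm⟩ := hP
    obtain ⟨n, hn⟩ := h5
    omega
  rw [← h4, mul_comm]
  exact Nat.mul_le_mul h6 h1

end

/-- **The row `Fi24'`, `p ≥ 5`.** -/
theorem row {L : Type u} [Group L] [Finite L] (h : Spor.IsoFi24' L) {p : ℕ} {a : MulAut L} {b : L} (S : Sit p a b)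
    (hp3 : p ≠ 3) : False := by
  have hfin : Finite Fi24 := finite_Fi24
  obtain ⟨e⟩ := h
  have hpr := S.prime
  have hf : Fact p.Prime := ⟨hpr⟩
  let φ : L →* Fi24 := (commutator Fi24).subtype.comp e.toMonoidHom
  have hφ : Function.Injective φ := (subtype_injective _).comp e.injective
  have hcard : Nat.card L = 1255205709190661721292800 := by
    rw [Nat.card_congr e.toEquiv]
    exact card_commutator
  have hnum : (1255205709190661721292800 : ℕ) = 2 ^ 21 * 3 ^ 16 * 5 ^ 2 * 7 ^ 3 * 11 * 13 * 17 * 23 * 29 := by norm_num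
  have hcent : ∀ y : L, Nat.card ↥(centralizer ({y} : Set L)) ≤ Nat.card ↥(centralizer ({φ y} : Set Fi24)) := by
    intro y
    refine Nat.card_le_card_of_injective (fun z : ↥(centralizer ({y} : Set L)) =>
      (⟨φ z, ?_⟩ : ↥(centralizer ({φ y} : Set Fi24)))) ?_
    · rw [mem_centralizer_singleton_iff, ← map_mul, ← map_mul, mem_centralizer_singleton_iff.1 z.2]
    · intro z w hzw
      have h0 : φ z = φ w := congrArg (fun s : ↥(centralizer ({φ y} : Set Fi24)) => (s : Fi24)) hzw
      exact Subtype.ext (hφ h0)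
  have hord : ∀ y : L, orderOf (φ y) = orderOf y := orderOf_injective φ hφ
  -- `|C_L(a)| ≥ 3 ^ 16`
  have hF : 3 ^ 16 ≤ Nat.card (fixedSubgroup a) := by
    have hf3 : Fact (Nat.Prime 3) := ⟨Nat.prime_three⟩
    obtain ⟨Q, hQ⟩ := Sylow.exists_subgroup_card_pow_prime (G := L) 3 (n := 16) (by
      rw [hcard, hnum]
      exact ⟨2 ^ 21 * 5 ^ 2 * 7 ^ 3 * 11 * 13 * 17 * 23 * 29, by norm_num⟩)
    rw [← hQ]
    apply S.card_le
    rw [hQ]
    intro h
    exact hp3 ((Nat.prime_dvd_prime_iff_eq hpr Nat.prime_three).1 (hpr.dvd_of_dvd_pow h))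
  have hFb := S.le
  have hFc : Nat.card (fixedSubgroup a) ≤ Nat.card ↥(centralizer ({b} : Set L)) := card_le_of_le hFb
  have h5p : 5 ≤ p := by
    have h2 := hpr.two_le
    have hne := S.ne_two
    rcases Nat.lt_or_ge p 5 with hlt | hge
    · interval_cases p
      · exact absurd rfl hne
      · exact absurd rfl hp3
      · exact absurd hpr (by norm_num)
    · exact hge
  rcases Nat.lt_or_ge (orderOf b) 5 with hlt | hge
  · -- order 3
    have hb3 : orderOf b = 3 := by
      have h1 := S.bprime
      have h2 := S.b_ne_two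
      have h3 := h1.two_le
      interval_cases horb : orderOf b
      · exact absurd rfl h2
      · rfl
      · exact absurd h1 (by norm_num)
    set H := centralizer ({b} : Set L) with hH
    have hHtop : H ≠ ⊤ := by
      intro h1
      apply S.b_ne_one
      have h2 : b ∈ Subgroup.center L := by
        rw [mem_center_iff]
        intro g
        have h3 : g ∈ H := by rw [h1]; exact mem_top g
        exact mem_centralizer_singleton_iff.1 h3
      rwa [S.good.center, mem_bot] at h2
    by_cases hO : pCore p H = ⊥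
    · have h1 := S.odd_of_inv hHtop S.map_centralizer_b hO
      have hb' : (e b) ^ 3 = 1 := by rw [← map_pow, ← hb3, pow_orderOf_eq_one, map_one]
      refine H711.FiEven.even_prime hb' ?_
      have h2 : Nat.card ↥(centralizer ({e b} : Set Spor.Fi24')) = Nat.card ↥H := by
        refine Nat.card_congr (e.symm.toEquiv.subtypeEquiv fun x => ?_)
        rw [hH, mem_centralizer_singleton_iff, mem_centralizer_singleton_iff]
        show x * e b = e b * x ↔ e.symm x * b = b * e.symm x
        rw [← e.injective.eq_iff, map_mul, map_mul, MulEquiv.apply_symm_apply]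
      rwa [h2]
    · have hN : (pCore p H).Normal := Lib.Cores.pCore_normal (G := H) p
      set P : Subgroup L := (pCore p H).map H.subtype with hPdef
      have hPp : IsPGroup p P := (Lib.Cores.pCore_isPGroup (G := H) p).map _
      obtain ⟨n, hn⟩ := IsPGroup.iff_card.1 hPp
      have hPne : P ≠ ⊥ := by
        intro h1
        exact hO ((map_eq_bot_iff_of_injective _ (subtype_injective _)).1 h1)
      have hn0 : n ≠ 0 := by
        rintro rfl
        rw [pow_zero] at hn
        exact hPne (eq_bot_of_card_eq P hn)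
      have hPodd : Odd (Nat.card P) := by
        rw [hn]
        exact (hpr.odd_of_ne_two S.ne_two).pow
      have hconj : ∀ f ∈ fixedSubgroup a, ∀ s ∈ P, f * s * f⁻¹ ∈ P := by
        rintro f hf' _ ⟨s, hs, rfl⟩
        exact ⟨_, hN.conj_mem s hs ⟨f, hFb hf'⟩, rfl⟩
      have key : ∀ y ∈ P, orderOf y = p → 3 ^ 16 ≤ (p ^ n - 2) * Nat.card ↥(centralizer ({φ y} : Set Fi24)) := by
        intro y hy hyo
        have hy1 : y ≠ 1 := by
          rintro rfl
          rw [orderOf_one] at hyo
          exact hpr.one_lt.ne hyo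
        have h1 := card_le_of_conj hconj S.odd hPodd hy hy1
        rw [hn] at h1
        exact hF.trans (h1.trans (Nat.mul_le_mul_left _ (hcent y)))
      obtain ⟨y, hyo⟩ : ∃ y : P, orderOf y = p := exists_prime_orderOf_dvd_card' p (by rw [hn]; exact dvd_pow_self p hn0)
      have hyo' : orderOf (y : L) = p := by rw [Subgroup.orderOf_coe]; exact hyo
      have hdvd : p ^ n ∣ 2 ^ 21 * 3 ^ 16 * 5 ^ 2 * 7 ^ 3 * 11 * 13 * 17 * 23 * 29 := by
        rw [← hnum, ← hcard, ← hn]
        exact card_subgroup_dvd_card P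
      have hp1 : p ∣ 2 ^ 21 * 3 ^ 16 * 5 ^ 2 * 7 ^ 3 * 11 * 13 * 17 * 23 * 29 := (dvd_pow_self p hn0).trans hdvd
      simp only [hpr.dvd_mul] at hp1
      have kk : ∀ {q m : ℕ}, q.Prime → p ∣ q ^ m → p = q := fun hq h =>
        (Nat.prime_dvd_prime_iff_eq hpr hq).1 (hpr.dvd_of_dvd_pow h)
      have kk' : ∀ {q : ℕ}, q.Prime → p ∣ q → p = q := fun hq h => (Nat.prime_dvd_prime_iff_eq hpr hq).1 h
      have big : ∀ q : ℕ, (q = 11 ∨ q = 13 ∨ q = 17 ∨ q = 23 ∨ q = 29) → p = q → False := by
        rintro q hq rfl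
        have hn1 : n ≤ 1 := by
          by_contra hc
          have h2 : p ^ 2 ∣ 2 ^ 21 * 3 ^ 16 * 5 ^ 2 * 7 ^ 3 * 11 * 13 * 17 * 23 * 29 :=
            (pow_dvd_pow p (by omega)).trans hdvd
          rcases hq with rfl | rfl | rfl | rfl | rfl <;> revert h2 <;> norm_num
        have hn2 : n = 1 := by omega
        have h1 := key y y.2 hyo'
        have h2 := card_cent_big hq (by rw [hord]; exact hyo')
        rw [hn2, pow_one] at h1
        have h3 := h1.trans (Nat.mul_le_mul_left _ h2)
        rcases hq with rfl | rfl | rfl | rfl | rfl <;> norm_num at h3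
      rcases hp1 with (((((((h | h) | h) | h) | h) | h) | h) | h) | h
      · have := kk (by norm_num) h; omega
      · have := kk (by norm_num) h; omega
      · -- `p = 5`
        have hp5 := kk (by norm_num) h
        subst hp5
        have hn2 : n ≤ 2 := by
          by_contra hc
          have h2 : 5 ^ 3 ∣ 2 ^ 21 * 3 ^ 16 * 5 ^ 2 * 7 ^ 3 * 11 * 13 * 17 * 23 * 29 :=
            (pow_dvd_pow 5 (by omega)).trans hdvd
          revert h2; norm_num
        have h1 := key y y.2 hyo'
        have h2 := card_cent_five (y := φ y) (by rw [hord]; exact hyo')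
        have h3 : 5 ^ n - 2 ≤ 23 := by
          have h4 : 5 ^ n ≤ 5 ^ 2 := Nat.pow_le_pow_right (by norm_num) hn2
          omega
        have h4 := h1.trans (Nat.mul_le_mul h3 h2)
        norm_num at h4
      · -- `p = 7`
        have hp7 := kk (by norm_num) h
        subst hp7
        have hn3 : n ≤ 3 := by
          by_contra hc
          have h2 : 7 ^ 4 ∣ 2 ^ 21 * 3 ^ 16 * 5 ^ 2 * 7 ^ 3 * 11 * 13 * 17 * 23 * 29 :=
            (pow_dvd_pow 7 (by omega)).trans hdvd
          revert h2; norm_num
        -- a conjugate of `y7`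
        have no7 : ∀ y ∈ P, orderOf y = 7 → (∃ g : Fi24, (zpowers (φ y)).map (MulAut.conj g).toMonoidHom = zpowers y7) →
            False := by
          intro y hy hyo hg
          rcases card_cent_seven (y := φ y) (by rw [hord]; exact hyo) with ⟨-, h2⟩ | ⟨h2, -⟩
          · have h1 := key y hy hyo
            have h3 : 7 ^ n - 2 ≤ 341 := by
              have h4 : 7 ^ n ≤ 7 ^ 3 := Nat.pow_le_pow_right (by norm_num) hn3
              omega
            have h4 := h1.trans (Nat.mul_le_mul h3 h2)
            norm_num at h4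
          · exact h2 hg
        have hn2 : n ≤ 2 := by
          by_contra hc
          have hn3' : n = 3 := by omega
          have h1 : Nat.card (P.map φ) = 343 := by
            rw [card_map_of_injective hφ, hn, hn3']; norm_num
          obtain ⟨_, ⟨y, hy, rfl⟩, hyo, hg⟩ := exists_conj_y7 h1
          exact no7 y hy (by rw [← hord]; exact hyo) hg
        rcases card_cent_seven (y := φ y) (by rw [hord]; exact hyo') with ⟨h2, -⟩ | ⟨-, h2⟩
        · exact no7 y y.2 hyo' h2
        · have h1 := key y y.2 hyo'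
          have h3 : 7 ^ n - 2 ≤ 47 := by
            have h4 : 7 ^ n ≤ 7 ^ 2 := Nat.pow_le_pow_right (by norm_num) hn2
            omega
          have h4 := h1.trans (Nat.mul_le_mul h3 h2)
          norm_num at h4
      · exact big _ (by simp) (kk' (by norm_num) h)
      · exact big _ (by simp) (kk' (by norm_num) h)
      · exact big _ (by simp) (kk' (by norm_num) h)
      · exact big _ (by simp) (kk' (by norm_num) h)
      · exact big _ (by simp) (kk' (by norm_num) h)
  · -- order `≥ 5`
    have h1 := card_cent_le (y := φ b) (r := orderOf b) S.bprime hge (hord b)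
    have h2 := hF.trans (hFc.trans ((hcent b).trans h1))
    norm_num at h2

end Cfsg.Agent.H187.FiOdd
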