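import Cfsg.Agent.H187.FiOdd.Three
import Cfsg.Agent.H819.CubeFi24
import Cfsg.Agent.H516.OddFrame

/-!
# S4094, S3842: the row `Fi24'`, `p = 3`, under the strong hypothesis (helper187)

`row3` : no automorphism `a` of `Fi24'` with `|C(a)|` odd has all commutators `(a x)⁻¹ * x` of 3-power order.
-/

set_option autoImplicit false

namespace Cfsg.Agent.H187.FiOdd

open Cfsg Cfsg.Agent.H516 Subgroup Cfsg.Agent.R08
open Cfsg.Spor (Fi24)

universe u

theorem no_three_fi24 {g : Fi24} (hodd : Odd (Nat.card ↥(centralizer ({g} : Set Fi24) ⊓ commutator Fi24 : Subgroup Fi24)))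
    (hP : ∀ u ∈ commutator Fi24, P3 (g * u * g⁻¹ * u⁻¹)) : False := by
  have := FiTwentyFour.finite_Fi24
  obtain ⟨R, -, -, hR⟩ := FiTwentyFour.facts.exists_rank3
  have hfin : Finite (Fi24 ⧸ Cfsg.Agent.Fischer.Fi24RepOrb.H) := inferInstance
  refine no_three R (H711.FiEven.nb_card R hR) (H711.FiEven.cn_card R hR) (H711.FiEven.cb_card R hR) (s := -81)
    (by norm_num) (by norm_num) (by norm_num) (by norm_num) (by norm_num) ⟨-41, by norm_num⟩ (commutator Fi24)
    FiTwentyFour.index_commutator (fun x hx => ?_) hodd hP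
  have h1 : closure (Set.range R.t) ≤ commutator Fi24 := by
    rw [closure_le]
    rintro _ ⟨y, rfl⟩
    obtain ⟨a, ha⟩ := R.trans x
    obtain ⟨b, hb⟩ := R.trans y
    have h2 : y = (b * a⁻¹) • x := by rw [mul_smul, ← hb, ← ha, inv_smul_smul]
    rw [h2, R.map_smul]
    exact (inferInstance : (commutator Fi24).Normal).conj_mem _ hx _
  rw [R.gen, top_le_iff] at h1
  have h3 := FiTwentyFour.index_commutator
  rw [h1, index_top] at h3
  norm_num at h3

/-- **The row `Fi24'`, `p = 3`, strong hypothesis.** -/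
theorem row3 {L : Type u} [Group L] [Finite L] (h : Spor.IsoFi24' L) {a : MulAut L}
    (hodd : Odd (Nat.card (fixedSubgroup a))) (hP : ∀ x : L, ∃ k : ℕ, orderOf ((a x)⁻¹ * x) = 3 ^ k) : False := by
  obtain ⟨e⟩ := h
  let α : MulAut (commutator Fi24) := MulAut.congr e a
  obtain ⟨g, hg⟩ := Cfsg.Agent.H819.CubeFi24.conj_surjective α
  have hα : ∀ u : commutator Fi24, g * (u : Fi24) * g⁻¹ = ((e (a (e.symm u)) : commutator Fi24) : Fi24) := by
    intro u
    have h1 := congrArg (fun f : MulAut (commutator Fi24) => ((f u : commutator Fi24) : Fi24)) hg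
    simp only [MulAut.conjNormal_apply] at h1
    exact h1
  refine no_three_fi24 (g := g) ?_ ?_
  · have h1 : Nat.card (fixedSubgroup a) =
        Nat.card ↥(centralizer ({g} : Set Fi24) ⊓ commutator Fi24 : Subgroup Fi24) := by
      refine Nat.card_congr
        { toFun := fun x => ⟨((e x : commutator Fi24) : Fi24), ?_, (e x).2⟩
          invFun := fun x => ⟨e.symm ⟨x.1, x.2.2⟩, ?_⟩
          left_inv := fun x => ?_
          right_inv := fun x => ?_ }
      · refine mem_centralizer_singleton_iff.2 ?_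
        have h2 := hα (e x)
        have h3 : a x = x := mem_fixed.1 x.2
        rw [MulEquiv.symm_apply_apply, h3] at h2
        exact (mul_inv_eq_iff_eq_mul.1 h2).symm
      · have h2 := hα ⟨x.1, x.2.2⟩
        have h3 : g * x.1 * g⁻¹ = x.1 := by
          rw [mul_inv_eq_iff_eq_mul]
          exact (mem_centralizer_singleton_iff.1 x.2.1).symm
        rw [mem_fixed]
        apply e.injective
        apply Subtype.ext
        rw [← h2, MulEquiv.apply_symm_apply]
        exact h3
      · apply Subtype.ext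
        show e.symm ⟨((e x : commutator Fi24) : Fi24), _⟩ = x
        exact e.symm_apply_apply _
      · apply Subtype.ext
        show ((e (e.symm ⟨x.1, x.2.2⟩) : commutator Fi24) : Fi24) = x
        rw [e.apply_symm_apply]
    rwa [← h1]
  · intro u hu
    obtain ⟨k, hk⟩ := hP (e.symm ⟨u, hu⟩)⁻¹
    rw [map_inv, inv_inv] at hk
    refine ⟨k, ?_⟩
    rw [← hk, hα ⟨u, hu⟩]
    have h1 : ((e (a (e.symm ⟨u, hu⟩)) : commutator Fi24) : Fi24) * u⁻¹ =
        ((e (a (e.symm ⟨u, hu⟩) * (e.symm ⟨u, hu⟩)⁻¹) : commutator Fi24) : Fi24) := by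
      rw [map_mul, map_inv, MulEquiv.apply_symm_apply]
      rfl
    rw [h1, Subgroup.orderOf_coe]
    exact orderOf_injective e.toMonoidHom e.injective _

end Cfsg.Agent.H187.FiOdd
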