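import Cfsg.Agent.H711.FiEven

/-!
# Rank three 3-transposition groups: elements all whose commutators are 3-elements (helper187, S4094/S3842)

`N` of index 2 in `G` not containing the transpositions. `no_three`: if `C_N(g)` has odd order, then some commutator
`[g, u]`, `u ∈ N`, is not a 3-element (hypotheses on the parameters as in `H711.SrgEven.even_cent`).

* `not_path` : the Coxeter element of a path of length four is not a 3-element;
* `no_adj` : `g` of odd order, all `[g, u]` (`u ∈ N`) 3-elements: `x` and `g • x` are never adjacent.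
-/

set_option autoImplicit false
set_option linter.unusedSectionVars false
set_option linter.unusedSimpArgs false

namespace Cfsg.Agent.H187.FiOdd

open Subgroup Cfsg.Agent.Fischer.Abstract Cfsg.Agent.LThreeM.SrgFix Cfsg.Agent.H711.SrgEven

/-- the order is a power of 3 -/
def P3 {G : Type*} [Group G] (w : G) : Prop := ∃ k : ℕ, orderOf w = 3 ^ k

section A4

variable {G : Type*} [Group G]

theorem P3.conj {w : G} (h : P3 w) (g : G) : P3 (g * w * g⁻¹) := by
  obtain ⟨k, hk⟩ := h
  refine ⟨k, ?_⟩
  rw [← hk]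
  exact orderOf_injective (MulAut.conj g).toMonoidHom (MulAut.conj g).injective w

theorem P3.eq_one {w : G} (h : P3 w) (h2 : w ^ 2 = 1) : w = 1 := by
  obtain ⟨k, hk⟩ := h
  have h1 : orderOf w ∣ Nat.gcd (3 ^ k) 2 := Nat.dvd_gcd (by rw [hk]) (orderOf_dvd_of_pow_eq_one h2)
  have h3 : Nat.gcd (3 ^ k) 2 = 1 := Nat.Coprime.pow_left k (by norm_num)
  rw [h3] at h1
  exact orderOf_eq_one_iff.1 (Nat.dvd_one.1 h1)

theorem P3.cube {w : G} (h : P3 w) (h2 : w ^ 6 = 1) : w ^ 3 = 1 := by
  obtain ⟨k, hk⟩ := h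
  have h1 : orderOf w ∣ Nat.gcd (3 ^ k) 6 := Nat.dvd_gcd (by rw [hk]) (orderOf_dvd_of_pow_eq_one h2)
  have h3 : Nat.gcd (3 ^ k) 6 ∣ 3 := by
    have h4 : Nat.Coprime (Nat.gcd (3 ^ k) 6) 2 := Nat.Coprime.coprime_dvd_left (Nat.gcd_dvd_left _ _)
      (Nat.Coprime.pow_left k (by norm_num))
    exact h4.dvd_of_dvd_mul_left (show Nat.gcd (3 ^ k) 6 ∣ 2 * 3 from Nat.gcd_dvd_right _ _)
  exact orderOf_dvd_iff_pow_eq_one.1 (h1.trans h3)

/-- **A path of length four**: its Coxeter element has order 5. -/
theorem not_path {a b c d : G} (ha : a * a = 1) (hb : b * b = 1) (hc : c * c = 1) (hd : d * d = 1)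
    (hab : a * b * a = b * a * b) (hbc : b * c * b = c * b * c) (hcd : c * d * c = d * c * d)
    (hac : Commute a c) (had : Commute a d) (hbd : Commute b d) (hne : a ≠ b) : ¬ P3 (a * b * c * d) := by
  rintro ⟨k, hk⟩
  set w := a * b * c * d with hw
  have ra : ∀ x : G, a * (a * x) = x := fun x => by rw [← mul_assoc, ha, one_mul]
  have rb : ∀ x : G, b * (b * x) = x := fun x => by rw [← mul_assoc, hb, one_mul]
  have rc : ∀ x : G, c * (c * x) = x := fun x => by rw [← mul_assoc, hc, one_mul]
  have rd : ∀ x : G, d * (d * x) = x := fun x => by rw [← mul_assoc, hd, one_mul]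
  have rca : ∀ x : G, c * (a * x) = a * (c * x) := fun x => by rw [← mul_assoc, ← hac.eq, mul_assoc]
  have rda : ∀ x : G, d * (a * x) = a * (d * x) := fun x => by rw [← mul_assoc, ← had.eq, mul_assoc]
  have rdb : ∀ x : G, d * (b * x) = b * (d * x) := fun x => by rw [← mul_assoc, ← hbd.eq, mul_assoc]
  have rbab : ∀ x : G, b * (a * (b * x)) = a * (b * (a * x)) := fun x => by
    rw [← mul_assoc a b x, ← mul_assoc, ← mul_assoc, ← hab]; simp only [mul_assoc]
  have rcbc : ∀ x : G, c * (b * (c * x)) = b * (c * (b * x)) := fun x => by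
    rw [← mul_assoc b c x, ← mul_assoc, ← mul_assoc, ← hbc]; simp only [mul_assoc]
  have rdcd : ∀ x : G, d * (c * (d * x)) = c * (d * (c * x)) := fun x => by
    rw [← mul_assoc c d x, ← mul_assoc, ← mul_assoc, ← hcd]; simp only [mul_assoc]
  have rcbac : ∀ x : G, c * (b * (a * (c * x))) = b * (c * (b * (a * x))) := fun x => by
    rw [← rca x, rcbc]
  have rdcbd : ∀ x : G, d * (c * (b * (d * x))) = c * (d * (c * (b * x))) := fun x => by
    rw [← rdb x, rdcd]
  have rdcbad : ∀ x : G, d * (c * (b * (a * (d * x)))) = c * (d * (c * (b * (a * x)))) := fun x => by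
    rw [← rda x, rdcbd]
  -- the orbit of `a`
  set e := a * b * c * d * c * b * a with he
  have key : ∀ u v : G, (w * (u * 1) = v * (w * 1)) → MulAut.conj w u = v := by
    intro u v h
    rw [mul_one, mul_one] at h
    rw [MulAut.conj_apply, h, mul_inv_cancel_right]
  have h1 : MulAut.conj w a = b := key _ _ (by
    simp only [hw, mul_assoc, ra, rb, rc, rd, rca, rda, rdb, rbab, rcbc, rdcd, rcbac, rdcbd, rdcbad])
  have h2 : MulAut.conj w b = c := key _ _ (by
    simp only [hw, mul_assoc, ra, rb, rc, rd, rca, rda, rdb, rbab, rcbc, rdcd, rcbac, rdcbd, rdcbad])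
  have h3 : MulAut.conj w c = d := key _ _ (by
    simp only [hw, mul_assoc, ra, rb, rc, rd, rca, rda, rdb, rbab, rcbc, rdcd, rcbac, rdcbd, rdcbad])
  have h4 : MulAut.conj w d = e := key _ _ (by
    simp only [hw, he, mul_assoc, ra, rb, rc, rd, rca, rda, rdb, rbab, rcbc, rdcd, rcbac, rdcbd, rdcbad])
  have h5 : MulAut.conj w e = a := key _ _ (by
    simp only [hw, he, mul_assoc, ra, rb, rc, rd, rca, rda, rdb, rbab, rcbc, rdcd, rcbac, rdcbd, rdcbad])
  have p5 : Function.IsPeriodicPt (MulAut.conj w) 5 a := by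
    show (MulAut.conj w)^[5] a = a
    simp only [Function.iterate_succ, Function.iterate_zero, Function.comp_apply, id_eq, h1, h2, h3, h4, h5]
  have p3 : Function.IsPeriodicPt (MulAut.conj w) (3 ^ k) a := by
    show (MulAut.conj w)^[3 ^ k] a = a
    have h : ((MulAut.conj w) ^ (3 ^ k) : MulAut G) = 1 := by
      rw [← map_pow, ← hk, pow_orderOf_eq_one, map_one]
    have h' : ∀ n : ℕ, (MulAut.conj w)^[n] a = ((MulAut.conj w) ^ n : MulAut G) a := by
      intro n
      induction n with
      | zero => rfl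
      | succ n ih => rw [Function.iterate_succ_apply', ih, pow_succ']; rfl
    rw [h', h]
    rfl
  have p1 := p5.gcd p3
  have hg : Nat.gcd 5 (3 ^ k) = 1 := Nat.Coprime.pow_right k (by norm_num)
  rw [hg] at p1
  have h6 : MulAut.conj w a = a := p1
  exact hne (h6.symm.trans h1)

end A4

variable {G X : Type*} [Group G] [MulAction G X] (R : Rank3 G X)

/-- **The pattern argument**: no point is adjacent to its image under `g`. -/
theorem no_adj {g : G} (hgo : Odd (orderOf g))
    (hP : ∀ x y : X, P3 (g * (R.t x * R.t y) * g⁻¹ * (R.t x * R.t y)⁻¹)) (x : X) : ¬ Adj R x (g • x) := by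
  rintro ⟨hne, hcom⟩
  set n := MulAction.period g x with hn
  have hodd : Odd n := hgo.of_dvd_nat (MulAction.period_dvd_orderOf g x)
  have hn1 : n ≠ 1 := by
    intro h
    apply hne
    have h1 := (MulAction.pow_smul_eq_iff_period_dvd (n := 1) (m := g) (a := x)).2 (by rw [← hn, h])
    rw [pow_one] at h1
    exact h1.symm
  have hdist : ∀ i j : ℕ, i < j → j < n → g ^ i • x ≠ g ^ j • x := by
    intro i j hij hjn h
    have h1 : g ^ (j - i) • x = x := by
      have h2 : g ^ j • x = g ^ i • g ^ (j - i) • x := by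
        rw [← mul_smul, ← pow_add, Nat.add_sub_cancel' hij.le]
      rw [h2] at h
      exact ((MulAction.injective (g ^ i)) h).symm
    have h2 := MulAction.pow_smul_eq_iff_period_dvd.1 h1
    have h3 := Nat.le_of_dvd (by omega) h2
    omega
  have hshift : ∀ i j : ℕ, R.Com (g ^ i • x) (g ^ (i + j) • x) ↔ R.Com x (g ^ j • x) := by
    intro i j
    rw [pow_add, mul_smul, R.com_smul]
  have ht : ∀ i : ℕ, R.t (g ^ (i + 1) • x) = g * R.t (g ^ i • x) * g⁻¹ := by
    intro i
    rw [pow_succ', mul_smul, R.map_smul]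
  have hW : ∀ k : ℕ, P3 (R.t (g ^ 1 • x) * R.t (g ^ (k + 1) • x) * R.t (g ^ k • x) * R.t (g ^ 0 • x)) := by
    intro k
    have h1 := hP (g ^ 0 • x) (g ^ k • x)
    rw [mul_inv_rev, R.t_inv, R.t_inv] at h1
    have h2 : g * (R.t (g ^ 0 • x) * R.t (g ^ k • x)) * g⁻¹ * (R.t (g ^ k • x) * R.t (g ^ 0 • x)) =
        R.t (g ^ 1 • x) * R.t (g ^ (k + 1) • x) * R.t (g ^ k • x) * R.t (g ^ 0 • x) := by
      rw [ht k, ht 0]
      group
    rwa [h2] at h1
  have hs1 : R.Com x (g ^ 1 • x) := by rw [pow_one]; exact hcom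
  have claim : ∀ k : ℕ, 1 ≤ k → k < n → (R.Com x (g ^ k • x) ↔ Odd k) := by
    intro k
    induction k using Nat.strong_induction_on with
    | _ k ih =>
      intro hk1 hkn
      rcases Nat.lt_or_ge k 3 with hlt | hge
      · interval_cases k
        · exact ⟨fun _ => ⟨0, rfl⟩, fun _ => hs1⟩
        · refine ⟨fun h => ?_, fun h => absurd h (by decide)⟩
          exfalso
          have h0 := hW 1
          have c12 : R.Com (g ^ 1 • x) (g ^ (1 + 1) • x) := (hshift 1 1).2 hs1
          have h1 : R.t (g ^ 1 • x) * R.t (g ^ (1 + 1) • x) * R.t (g ^ 1 • x) * R.t (g ^ 0 • x) =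
              R.t (g ^ 2 • x) * R.t (g ^ 0 • x) := by
            rw [show R.t (g ^ 1 • x) * R.t (g ^ (1 + 1) • x) = R.t (g ^ (1 + 1) • x) * R.t (g ^ 1 • x) from c12,
              mul_assoc (R.t (g ^ (1 + 1) • x)), R.sq', mul_one]
          rw [h1] at h0
          have c02 : R.t (g ^ 0 • x) * R.t (g ^ 2 • x) = R.t (g ^ 2 • x) * R.t (g ^ 0 • x) := by
            rw [pow_zero, one_smul]; exact h
          have h2 := h0.eq_one (by
            rw [pow_two]
            calc R.t (g ^ 2 • x) * R.t (g ^ 0 • x) * (R.t (g ^ 2 • x) * R.t (g ^ 0 • x))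
                = R.t (g ^ 2 • x) * (R.t (g ^ 0 • x) * R.t (g ^ 2 • x)) * R.t (g ^ 0 • x) := by group
              _ = (R.t (g ^ 2 • x) * R.t (g ^ 2 • x)) * (R.t (g ^ 0 • x) * R.t (g ^ 0 • x)) := by rw [c02]; group
              _ = 1 := by rw [R.sq', R.sq', one_mul])
          rw [mul_eq_one_iff_eq_inv, R.t_inv] at h2
          exact hdist 0 2 (by norm_num) hkn (R.t_inj.1 h2).symm
      · -- `k = m + 1`, `m ≥ 2`
        obtain ⟨m, rfl⟩ : ∃ m, k = m + 1 := ⟨k - 1, by omega⟩
        obtain ⟨q, rfl⟩ : ∃ q, m = q + 1 := ⟨m - 1, by omega⟩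
        have i1 := ih (q + 1) (by omega) (by omega) (by omega)
        have i2 := ih q (by omega) (by omega) (by omega)
        -- A = t (g x), B = t (g^(q+2) x), C = t (g^(q+1) x), D = t x
        have hw := hW (q + 1)
        have eAB : R.Com (g ^ 1 • x) (g ^ (q + 1 + 1) • x) ↔ R.Com x (g ^ (q + 1) • x) := by
          rw [show q + 1 + 1 = 1 + (q + 1) by ring]; exact hshift 1 (q + 1)
        have eAC : R.Com (g ^ 1 • x) (g ^ (q + 1) • x) ↔ R.Com x (g ^ q • x) := by
          rw [show q + 1 = 1 + q by ring]; exact hshift 1 q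
        have cBC : R.Com (g ^ (q + 1) • x) (g ^ (q + 1 + 1) • x) := (hshift (q + 1) 1).2 hs1
        have e0 : g ^ 0 • x = x := by rw [pow_zero, one_smul]
        have cAD : R.Com (g ^ 0 • x) (g ^ 1 • x) := by rw [e0]; exact hs1
        have nBD : g ^ 0 • x ≠ g ^ (q + 1 + 1) • x := hdist 0 (q + 1 + 1) (by omega) hkn
        have nAB : g ^ 1 • x ≠ g ^ (q + 1 + 1) • x := hdist 1 (q + 1 + 1) (by omega) hkn
        by_cases hq : Odd (q + 1)
        · -- `s (q+1) = C`, `s q = N`; want `s (q+2) = N`
          have hq' : ¬ Odd q := by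
            intro h; exact (Nat.not_even_iff_odd.2 hq) (h.add_one)
          have hq2 : ¬ Odd (q + 1 + 1) := by
            intro h; exact (Nat.not_even_iff_odd.2 h) (hq.add_one)
          refine ⟨fun h => ?_, fun h => absurd h hq2⟩
          exfalso
          have cCD : R.Com (g ^ 0 • x) (g ^ (q + 1) • x) := by rw [e0]; exact i1.2 hq
          have cAB := eAB.2 (i1.2 hq)
          have nAC : ¬ R.Com (g ^ 1 • x) (g ^ (q + 1) • x) := fun h => hq' (i2.1 (eAC.1 h))
          have bAC := (R.com_or_braid _ _).resolve_left nAC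
          have cBD : R.Com (g ^ 0 • x) (g ^ (q + 1 + 1) • x) := by rw [e0]; exact h
          set A := R.t (g ^ 1 • x) with hA
          set B := R.t (g ^ (q + 1 + 1) • x) with hB
          set C := R.t (g ^ (q + 1) • x) with hC
          set D := R.t (g ^ 0 • x) with hD
          have sA : A * A = 1 := R.sq' _
          have sB : B * B = 1 := R.sq' _
          have sC : C * C = 1 := R.sq' _
          have sD : D * D = 1 := R.sq' _
          have kAB : Commute A B := cAB
          have kCB : Commute C B := cBC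
          have kDA : Commute D A := cAD
          have kDC : Commute D C := cCD
          have kDB : Commute D B := cBD
          have hsplit : A * B * C * D = (A * C) * (B * D) := by
            calc A * B * C * D = A * (B * C) * D := by group
              _ = (A * C) * (B * D) := by rw [← kCB.eq]; group
          have hcm : Commute (A * C) (B * D) :=
            ((kAB.mul_right kDA.symm).mul_left (kCB.mul_right kDC.symm))
          have hAC3 : (A * C) ^ 3 = 1 := by
            calc (A * C) ^ 3 = (A * C * A) * (C * A * C) := by rw [pow_succ, pow_two]; group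
              _ = (C * A * C) * (C * A * C) := by rw [bAC]
              _ = C * A * (C * C) * A * C := by group
              _ = C * (A * A) * C := by rw [sC]; group
              _ = 1 := by rw [sA, mul_one, sC]
          have hBD2 : (B * D) ^ 2 = 1 := by
            calc (B * D) ^ 2 = B * (D * B) * D := by rw [pow_two]; group
              _ = (B * B) * (D * D) := by rw [kDB.eq]; group
              _ = 1 := by rw [sB, sD, one_mul]
          rw [hsplit] at hw
          have h6 : ((A * C) * (B * D)) ^ 6 = 1 := by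
            rw [hcm.mul_pow, show 6 = 3 * 2 by norm_num, pow_mul, hAC3, one_pow, mul_comm 3 2, pow_mul, hBD2, one_pow,
              one_mul]
          have h3 := hw.cube h6
          rw [hcm.mul_pow, hAC3, one_mul, pow_succ, hBD2, one_mul, mul_eq_one_iff_eq_inv] at h3
          have hDi : D⁻¹ = D := R.t_inv _
          rw [hDi] at h3
          exact nBD (R.t_inj.1 h3).symm
        · -- `s (q+1) = N`, `s q = C`; want `s (q+2) = C`
          have hq' : Odd q := by
            by_contra h
            exact hq ((Nat.not_odd_iff_even.1 h).add_one)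
          have hq2 : Odd (q + 1 + 1) := (Nat.not_odd_iff_even.1 hq).add_one
          refine ⟨fun _ => hq2, fun _ => ?_⟩
          by_contra h
          have nCD : ¬ R.Com (g ^ 0 • x) (g ^ (q + 1) • x) := by rw [e0]; exact fun h => hq (i1.1 h)
          have nAB' : ¬ R.Com (g ^ 1 • x) (g ^ (q + 1 + 1) • x) := fun h => hq (i1.1 (eAB.1 h))
          have cAC := eAC.2 (i2.2 hq')
          have nBD' : ¬ R.Com (g ^ (q + 1 + 1) • x) (g ^ 0 • x) := by
            rw [e0]; exact fun h' => h (R.com_symm h')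
          have bAB := (R.com_or_braid _ _).resolve_left nAB'
          have bBD := (R.com_or_braid _ _).resolve_left nBD'
          have bDC := (R.com_or_braid _ _).resolve_left nCD
          refine not_path (R.sq' _) (R.sq' _) (R.sq' _) (R.sq' _) bAB bBD bDC (Eq.symm cAD) cAC (Eq.symm cBC)
            (fun h => nAB (R.t_inj.1 h)) ?_
          have h7 := hw.conj (R.t (g ^ (q + 1) • x))
          convert h7 using 1
          rw [R.t_inv]
          have kCA : Commute (R.t (g ^ (q + 1) • x)) (R.t (g ^ 1 • x)) := Eq.symm cAC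
          have kCB : Commute (R.t (g ^ (q + 1) • x)) (R.t (g ^ (q + 1 + 1) • x)) := cBC
          have sC : R.t (g ^ (q + 1) • x) * R.t (g ^ (q + 1) • x) = 1 := R.sq' _
          set A := R.t (g ^ 1 • x) with hA
          set B := R.t (g ^ (q + 1 + 1) • x) with hB
          set C := R.t (g ^ (q + 1) • x) with hC
          set D := R.t (g ^ 0 • x) with hD
          calc A * B * D * C = (A * B) * (C * C) * D * C := by rw [sC, mul_one]
            _ = (A * B * C) * C * D * C := by group
            _ = (C * (A * B)) * C * D * C := by rw [(kCA.mul_right kCB).eq]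
            _ = C * (A * B * C * D) * C := by group
  -- the end
  have h3 : 3 ≤ n := by
    obtain ⟨q, hq⟩ := hodd
    omega
  have h4 := (claim (n - 1) (by omega) (by omega)).1 (by
    have h5 : R.Com (g • x) (g • g ^ (n - 1) • x) := by
      rw [← mul_smul, ← pow_succ', show n - 1 + 1 = n by omega, hn, MulAction.pow_period_smul]
      exact R.com_symm hcom
    exact (R.com_smul g _ _).1 h5)
  obtain ⟨q, hq⟩ := hodd
  obtain ⟨q', hq'⟩ := h4
  omega

variable {k l m : ℕ} {s : ℤ}

/-- **Some commutator is not a 3-element.** -/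
theorem no_three [Finite G] [Finite X] (hk : (nb R R.x0).ncard = k) (hl : (cn R R.x0 R.c).ncard = l)
    (hm : (cn R R.x0 R.b).ncard = m) (hs : s * s = ((l : ℤ) - m) * s + ((k : ℤ) - m))
    (ha : (l : ℤ) - m - 2 * s ≠ 0) (hd : ¬ ((l : ℤ) - m - 2 * s) ∣ ((k : ℤ) - s))
    (h2a : (2 : ℤ) ∣ (l : ℤ) - m - 2 * s) (h2k : (2 : ℤ) ∣ (k : ℤ) - s) (hs1 : Odd s)
    (N : Subgroup G) (hN : N.index = 2) (hN' : ∀ x, R.t x ∉ N) {g : G}
    (hodd : Odd (Nat.card ↥(centralizer ({g} : Set G) ⊓ N : Subgroup G)))
    (hP : ∀ u ∈ N, P3 (g * u * g⁻¹ * u⁻¹)) : False := by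
  -- an involution of `C(g) ∩ N` is trivial
  have key : ∀ u ∈ N, Commute g u → u * u = 1 → u = 1 := by
    intro u hu hgu huu
    have hmem : u ∈ (centralizer ({g} : Set G) ⊓ N : Subgroup G) :=
      ⟨mem_centralizer_singleton_iff.2 hgu.eq.symm, hu⟩
    have h1 : orderOf (⟨u, hmem⟩ : ↥(centralizer ({g} : Set G) ⊓ N : Subgroup G)) ∣ 2 :=
      orderOf_dvd_of_pow_eq_one (Subtype.ext (by rw [SubgroupClass.coe_pow]; exact (pow_two u).trans huu))
    have h2 := orderOf_dvd_natCard (⟨u, hmem⟩ : ↥(centralizer ({g} : Set G) ⊓ N : Subgroup G))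
    have h3 : orderOf (⟨u, hmem⟩ : ↥(centralizer ({g} : Set G) ⊓ N : Subgroup G)) = 1 := by
      rcases (Nat.dvd_prime Nat.prime_two).1 h1 with h | h
      · exact h
      · exfalso
        rw [h] at h2
        exact (Nat.not_even_iff_odd.2 hodd) (even_iff_two_dvd.2 h2)
    exact congrArg Subtype.val (orderOf_eq_one_iff.1 h3)
  have hNmul : ∀ a b : G, a ∉ N → b ∉ N → a * b ∈ N := by
    intro a b h1 h2
    by_contra h3
    exact h3 ((Subgroup.mul_mem_iff_of_index_two hN).2 ⟨fun h => absurd h h1, fun h => absurd h h2⟩)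
  set F : Set X := {x | g • x = x} with hF
  set M : Set X := {x | Adj R x (g • x)} with hM
  -- no adjacent pairs
  have hM0 : M = ∅ := by
    rw [Set.eq_empty_iff_forall_notMem]
    intro x hx
    have hx' : Adj R x (g • x) := hx
    by_cases hA : ∃ τ : G, τ ∉ N ∧ Commute g τ
    · obtain ⟨τ, hτ, hgτ⟩ := hA
      have h1 := hP (R.t x * τ) (hNmul _ _ (hN' x) hτ)
      have h2 : g * (R.t x * τ) * g⁻¹ * (R.t x * τ)⁻¹ = R.t (g • x) * R.t x := by
        rw [R.map_smul]
        have h3 : τ * g⁻¹ = g⁻¹ * τ := hgτ.symm.inv_right.eq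
        calc g * (R.t x * τ) * g⁻¹ * (R.t x * τ)⁻¹ = g * R.t x * (τ * g⁻¹) * τ⁻¹ * (R.t x)⁻¹ := by group
          _ = g * R.t x * g⁻¹ * (R.t x)⁻¹ := by rw [h3]; group
          _ = g * R.t x * g⁻¹ * R.t x := by rw [R.t_inv]
      rw [h2] at h1
      have h4 : R.t x * R.t (g • x) = R.t (g • x) * R.t x := hx'.2
      have h5 := h1.eq_one (by
        calc (R.t (g • x) * R.t x) ^ 2 = R.t (g • x) * (R.t x * R.t (g • x)) * R.t x := by rw [pow_two]; group
          _ = (R.t (g • x) * R.t (g • x)) * (R.t x * R.t x) := by rw [h4]; group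
          _ = 1 := by rw [R.sq', R.sq', one_mul])
      rw [mul_eq_one_iff_eq_inv, R.t_inv] at h5
      exact hx'.1 (R.t_inj.1 h5).symm
    · push Not at hA
      have hgo : Odd (orderOf g) := by
        have hle : centralizer ({g} : Set G) ≤ N := by
          intro τ hτ
          by_contra h
          exact hA τ h (Commute.symm (mem_centralizer_singleton_iff.1 hτ))
        rw [inf_eq_left.2 hle] at hodd
        have h1 : g ∈ centralizer ({g} : Set G) := mem_centralizer_singleton_iff.2 rfl
        have h2 := orderOf_dvd_natCard (⟨g, h1⟩ : ↥(centralizer ({g} : Set G)))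
        rw [← Subgroup.orderOf_coe] at h2
        exact hodd.of_dvd_nat h2
      exact no_adj R hgo (fun y z => hP _ (hNmul _ _ (hN' y) (hN' z))) x hx'
  obtain ⟨z, hz⟩ := count R hk hl hm hs ha (n := orderOf g) (orderOf_pos g) (pow_orderOf_eq_one g)
  rw [← hF, ← hM, hM0, Set.ncard_empty] at hz
  by_cases hA : F.Nonempty
  · obtain ⟨x0, hx0⟩ := hA
    have hgx : Commute g (R.t x0) := (fix_iff R g x0).1 hx0
    have hsq : R.t x0 * R.t x0 = 1 := R.sq' _
    have a1 : F.ncard ≡ ({x | x ∈ F ∧ R.t x0 • x = x} : Set X).ncard [MOD 2] := by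
      refine modEq_fix F (fun x => R.t x0 • x) (fun x hx => ?_) (fun x _ => ?_)
      · show g • R.t x0 • x = R.t x0 • x
        rw [← mul_smul, hgx.eq, mul_smul, show g • x = x from hx]
      · show R.t x0 • R.t x0 • x = x
        rw [← mul_smul, hsq, one_smul]
    have e1 : ({x | x ∈ F ∧ R.t x0 • x = x} : Set X) = {x0} := by
      ext y
      constructor
      · rintro ⟨hy, hy2⟩
        have hgy : Commute g (R.t y) := (fix_iff R g y).1 hy
        have hc : Commute (R.t x0) (R.t y) := (fix_iff R _ _).1 hy2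
        have h1 := key (R.t x0 * R.t y) (hNmul _ _ (hN' _) (hN' _)) (hgx.mul_right hgy) (by
          calc R.t x0 * R.t y * (R.t x0 * R.t y) = R.t x0 * (R.t y * R.t x0) * R.t y := by group
            _ = (R.t x0 * R.t x0) * (R.t y * R.t y) := by rw [← hc.eq]; group
            _ = 1 := by rw [R.sq', R.sq', one_mul])
        rw [mul_eq_one_iff_eq_inv, R.t_inv] at h1
        exact (R.t_inj.1 h1).symm
      · rintro rfl
        exact ⟨hx0, (fix_iff R _ _).2 (Commute.refl _)⟩
    rw [e1, Set.ncard_singleton] at a1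
    have o1 : Odd (F.ncard : ℤ) := by
      have : Odd F.ncard := Nat.odd_iff.2 a1
      exact_mod_cast this
    have h1 : (2 : ℤ) ∣ s * (F.ncard : ℤ) := by
      have h2 : s * (F.ncard : ℤ) = -(((k : ℤ) - s) + ((l : ℤ) - m - 2 * s) * z) := by
        rw [← hz]; push_cast; ring
      rw [h2]
      exact (dvd_add h2k (h2a.mul_right z)).neg_right
    exact (Int.not_even_iff_odd.2 (hs1.mul o1)) (even_iff_two_dvd.2 h1)
  · rw [Set.not_nonempty_iff_eq_empty] at hA
    apply hd
    rw [hA, Set.ncard_empty] at hz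
    refine ⟨-z, ?_⟩
    push_cast at hz
    linarith [hz]

end Cfsg.Agent.H187.FiOdd
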